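import Mathlib
import Cfsg.Agent.Base
import Cfsg.Agent.Lib.Zsig.Basic

/-! Lower bounds for the primitive part of `a ^ n - 1` (helper76). -/

set_option autoImplicit false

namespace H76.Zs

open H69.Zsig

/-- `m` is a primitive divisor of `a ^ n - 1`. -/
def Prim (a n m : ℕ) : Prop := m ∣ a ^ n - 1 ∧ ∀ i : ℕ, 1 ≤ i → i < n → Nat.Coprime m (a ^ i - 1)

theorem exists_prim {a n : ℕ} (ha : 1 < a) (hn : 2 < n) : ∃ m, Prim a n m ∧ cv n a ≤ n * m := by
  have key : ∀ m, m ∣ cv n a → (∀ s : ℕ, s.Prime → s ∣ m → ¬ s ∣ n) → Prim a n m := by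
    intro m hm h
    refine ⟨hm.trans (cv_dvd ha n), fun i hi hin => Nat.coprime_of_dvd fun s hs hsm => ?_⟩
    exact (primitive_of_not_dvd ha hs (h s hs hsm) (hsm.trans hm)).2.1 i hi hin
  by_cases h : ∃ r : ℕ, r.Prime ∧ r ∣ cv n a ∧ r ∣ n
  · obtain ⟨r, hr, ⟨m, hm⟩, hrn⟩ := h
    refine ⟨m, key m (hm ▸ Dvd.intro_left _ rfl) fun s hs hsm hsn => ?_,
      hm ▸ Nat.mul_le_mul_right _ (Nat.le_of_dvd (by omega) hrn)⟩
    have h1 : s ∣ cv n a := hm ▸ hsm.mul_left _
    have h2 : r ∣ cv n a := hm ▸ Dvd.intro _ rfl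
    have h3 : s = r := le_antisymm (le_of_dvd_of_dvd ha hr (by omega) h2 hs hsn)
      (le_of_dvd_of_dvd ha hs (by omega) h1 hr hrn)
    subst h3
    exact not_sq_dvd ha hr hn hrn (by rw [hm, pow_two]; exact Nat.mul_dvd_mul_left _ hsm)
  · push Not at h
    exact ⟨cv n a, key _ dvd_rfl h, Nat.le_mul_of_pos_left _ (by omega)⟩

theorem three_pow_le (r : ℕ) (hr : 3 ≤ r) : 3 ^ r ≤ 2 ^ (r - 1) * (2 ^ r - 1) := by
  induction r, hr using Nat.le_induction with
  | base => norm_num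
  | succ r hr ih =>
    obtain ⟨k, rfl⟩ : ∃ k, r = k + 1 := ⟨r - 1, by omega⟩
    simp only [Nat.add_sub_cancel] at ih ⊢
    have h1 : 2 * (2 ^ (k + 1) - 1) ≤ 2 ^ (k + 1 + 1) - 1 := by rw [pow_succ 2 (k + 1)]; omega
    calc 3 ^ (k + 1 + 1) = 3 ^ (k + 1) * 3 := pow_succ _ _
      _ ≤ 2 ^ k * (2 ^ (k + 1) - 1) * 4 := Nat.mul_le_mul ih (by norm_num)
      _ = 2 ^ (k + 1) * (2 * (2 ^ (k + 1) - 1)) := by ring
      _ ≤ _ := Nat.mul_le_mul_left _ h1

theorem three_pow_le_cv {a n : ℕ} (ha : 1 < a) (hn : 2 < n) :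
    3 ^ n.totient ≤ 2 ^ n.totient * cv n a := by
  rcases (show a = 2 ∨ 3 ≤ a by omega) with rfl | ha3
  swap
  · refine le_trans ?_ (Nat.mul_le_mul_left _ (pow_le_cv ha n))
    rw [← mul_pow]
    exact Nat.pow_le_pow_left (by omega) _
  obtain ⟨r, m, hr, rfl, h⟩ : ∃ r m : ℕ, r.Prime ∧ n = m * r ∧ (r ∣ m ∨ 3 ≤ r) := by
    rcases Nat.four_dvd_or_exists_odd_prime_and_dvd_of_two_lt hn with ⟨k, rfl⟩ | ⟨r, hr, ⟨m, rfl⟩, ho⟩
    · exact ⟨2, 2 * k, Nat.prime_two, by ring, Or.inl (Dvd.intro _ rfl)⟩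
    · refine ⟨r, m, hr, mul_comm _ _, Or.inr ?_⟩
      have := hr.two_le
      obtain ⟨j, hj⟩ := ho
      omega
  have ha' : 1 < 2 ^ r := Nat.one_lt_pow hr.ne_zero ha
  by_cases hrm : r ∣ m
  · rw [cv_mul_of_dvd ha hr hrm, mul_comm m r, Nat.totient_mul_of_prime_of_dvd hr hrm]
    refine le_trans ?_ (Nat.mul_le_mul_left _ (pow_le_cv ha' m))
    rw [pow_mul, pow_mul, ← mul_pow]
    refine Nat.pow_le_pow_left ?_ _
    rcases (show r = 2 ∨ 3 ≤ r by have := hr.two_le; omega) with rfl | h3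
    · norm_num
    · exact (three_pow_le r h3).trans
        (Nat.mul_le_mul_right _ (Nat.pow_le_pow_right two_pos (Nat.sub_le _ _)))
  · have h3 := h.resolve_left hrm
    have h1 := cv_mul_of_not_dvd ha hr hrm
    have h2 := pow_le_cv ha' m
    have h4 := cv_le_pow ha m
    rw [show (m * r).totient = (r - 1) * m.totient by
      rw [mul_comm m r, Nat.totient_mul_of_prime_of_not_dvd hr hrm]]
    refine Nat.le_of_mul_le_mul_right ?_ (show 0 < 3 ^ m.totient by positivity)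
    calc 3 ^ ((r - 1) * m.totient) * 3 ^ m.totient = (3 ^ r) ^ m.totient := by
          rw [← pow_add, ← pow_mul]
          congr 1
          obtain ⟨k, rfl⟩ : ∃ k, r = k + 1 := ⟨r - 1, by omega⟩
          simp only [Nat.add_sub_cancel]
          ring
      _ ≤ (2 ^ (r - 1) * (2 ^ r - 1)) ^ m.totient := Nat.pow_le_pow_left (three_pow_le r h3) _
      _ ≤ 2 ^ ((r - 1) * m.totient) * (cv (m * r) 2 * cv m 2) := by
          rw [mul_pow, ← pow_mul, h1]
          exact Nat.mul_le_mul_left _ h2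
      _ ≤ _ := by
          rw [mul_assoc]
          exact Nat.mul_le_mul_left _ (Nat.mul_le_mul_left _ h4)

theorem le_two_mul_totient_sq (n : ℕ) :
    n ≤ 2 * n.totient ^ 2 ∧ (Odd n → n ≤ n.totient ^ 2) := by
  induction n using Nat.recOnPosPrimePosCoprime with
  | zero => simp
  | one => simp
  | prime_pow p k hp hk =>
    obtain ⟨k, rfl⟩ : ∃ j, k = j + 1 := ⟨k - 1, by omega⟩
    rw [Nat.totient_prime_pow_succ hp]
    obtain ⟨s, rfl⟩ : ∃ s, p = s + 1 := ⟨p - 1, by have := hp.pos; omega⟩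
    have hs : 1 ≤ s := by have := hp.two_le; omega
    have h1 : 1 ≤ (s + 1) ^ k := Nat.one_le_pow _ _ (by omega)
    simp only [Nat.add_sub_cancel]
    rw [pow_succ, mul_pow]
    have h2 : (s + 1) ^ k ≤ ((s + 1) ^ k) ^ 2 := Nat.le_self_pow two_ne_zero _
    refine ⟨?_, fun ho => ?_⟩
    · rw [mul_left_comm]
      exact Nat.mul_le_mul h2 (by nlinarith)
    · have h3 : 2 ≤ s := by
        obtain ⟨j, hj⟩ := (Nat.odd_mul.1 ho).2
        omega
      exact Nat.mul_le_mul h2 (by nlinarith)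
  | coprime a b ha hb hab iha ihb =>
    rw [Nat.totient_mul hab, mul_pow]
    refine ⟨?_, fun ho => Nat.mul_le_mul (iha.2 (Nat.odd_mul.1 ho).1) (ihb.2 (Nat.odd_mul.1 ho).2)⟩
    rcases Nat.even_or_odd a with he | ho
    · rw [← mul_assoc]
      exact Nat.mul_le_mul iha.1 (ihb.2 (Nat.Coprime.odd_of_left
        (Nat.Coprime.coprime_dvd_left he.two_dvd hab)))
    · rw [mul_left_comm]
      exact Nat.mul_le_mul (iha.2 ho) ihb.1

theorem bound_big (t : ℕ) (ht : 44 ≤ t) : 2 ^ t * (2 * t ^ 2 * (6 * t ^ 2 + 1)) ≤ 3 ^ t := by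
  induction t, ht using Nat.le_induction with
  | base => norm_num
  | succ t ht ih =>
    have h1 : 2 * (2 * (t + 1) ^ 2 * (6 * (t + 1) ^ 2 + 1)) ≤
        3 * (2 * t ^ 2 * (6 * t ^ 2 + 1)) := by
      obtain ⟨s, rfl⟩ := Nat.exists_eq_add_of_le ht
      ring_nf
      omega
    calc 2 ^ (t + 1) * (2 * (t + 1) ^ 2 * (6 * (t + 1) ^ 2 + 1))
        = 2 ^ t * (2 * (2 * (t + 1) ^ 2 * (6 * (t + 1) ^ 2 + 1))) := by ring
      _ ≤ 2 ^ t * (3 * (2 * t ^ 2 * (6 * t ^ 2 + 1))) := Nat.mul_le_mul_left _ h1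
      _ = 2 ^ t * (2 * t ^ 2 * (6 * t ^ 2 + 1)) * 3 := by ring
      _ ≤ 3 ^ t * 3 := Nat.mul_le_mul_right _ ih
      _ = _ := by ring

theorem bound_base (t : ℕ) (ht : 2 ≤ t) : 2 * t ^ 2 * (6 * t ^ 2 + 1) ≤ 15 ^ t := by
  induction t, ht using Nat.le_induction with
  | base => norm_num
  | succ t ht ih =>
    have h1 : 2 * (t + 1) ^ 2 * (6 * (t + 1) ^ 2 + 1) ≤
        (2 * t ^ 2 * (6 * t ^ 2 + 1)) * 15 := by
      obtain ⟨s, rfl⟩ := Nat.exists_eq_add_of_le ht
      ring_nf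
      omega
    exact h1.trans (pow_succ 15 t ▸ Nat.mul_le_mul_right _ ih)

/-- A list of small numbers used to bound the totient function from below. -/
def prs : List ℕ := [1, 2, 3, 5, 7, 11, 13, 17, 19, 23, 29, 31, 37, 41, 43, 47, 53, 59, 61, 67, 71,
  73, 79, 83, 89, 97, 101, 103, 107, 109, 113, 127, 131, 137, 139, 149, 151, 157, 163, 167, 173,
  179, 181, 191, 193, 197, 199, 211, 223]

theorem tot_check : (List.range 3700).all
    (fun n => n < 224 || 44 ≤ (prs.filter fun j => Nat.gcd n j == 1).length) = true := by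
  decide +kernel

theorem le_totient {n : ℕ} (h1 : 224 ≤ n) : 44 ≤ n.totient := by
  by_cases h2 : n < 3700
  · have h3 := List.all_eq_true.1 tot_check n (List.mem_range.2 h2)
    simp only [Bool.or_eq_true, decide_eq_true_eq] at h3
    refine (h3.resolve_left (by omega)).trans ?_
    have h4 : prs.Nodup := by decide +kernel
    have h5 : ∀ j ∈ prs, j < 224 := by decide +kernel
    rw [← List.toFinset_card_of_nodup (h4.filter _), Nat.totient_eq_card_coprime]
    refine Finset.card_le_card fun j hj => ?_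
    rw [List.mem_toFinset, List.mem_filter] at hj
    rw [Finset.mem_filter, Finset.mem_range]
    exact ⟨(h5 j hj.1).trans_le h1, by simpa using hj.2⟩
  · have h3 := (le_two_mul_totient_sq n).1
    by_contra h4
    have : n.totient ^ 2 ≤ 43 ^ 2 := Nat.pow_le_pow_left (by omega) _
    omega

/-- Remove from `x` the primes dividing `y`. -/
def strip (y : ℕ) : ℕ → ℕ → ℕ
  | 0, x => x
  | f + 1, x => if Nat.gcd x y = 1 then x else strip y f (x / Nat.gcd x y)

/-- A candidate for the primitive part. -/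
def cand (a n : ℕ) : ℕ :=
  (List.range n).foldl (fun x i => if 1 ≤ i ∧ n % i = 0 then strip (a ^ i - 1) 20 x else x)
    (a ^ n - 1)

/-- The verification of the candidate. -/
def ok (a n m : ℕ) : Bool :=
  (a ^ n - 1) % m == 0 && 3 * n + 1 ≤ m &&
    (List.range n).all fun i => i == 0 || Nat.gcd m (a ^ i - 1) == 1

theorem ok_sound {a n m : ℕ} (h : ok a n m = true) : Prim a n m ∧ 3 * n + 1 ≤ m := by
  simp only [ok, Bool.and_eq_true, beq_iff_eq, decide_eq_true_eq, List.all_eq_true,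
    List.mem_range, Bool.or_eq_true] at h
  exact ⟨⟨Nat.dvd_of_mod_eq_zero h.1.1, fun i hi hin => (h.2 i hin).resolve_left (by omega)⟩,
    h.1.2⟩

/-- The exceptional pairs. -/
def exc : List (ℕ × ℕ) := [(2, 6), (2, 4), (2, 10), (2, 12), (2, 18), (3, 4), (3, 6), (5, 6),
  (2, 3), (2, 8), (2, 20), (4, 3), (4, 6)]

theorem small_check : (List.range 16).all (fun a => (List.range 224).all fun n =>
    a < 2 || n < 3 || (a, n) ∈ exc || ok a n (cand a n)) = true := by
  decide +kernel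

theorem exists_prim_large {a n : ℕ} (ha : 1 < a) (hn : 2 < n) (h : (a, n) ∉ exc) :
    ∃ m, Prim a n m ∧ 3 * n + 1 ≤ m := by
  by_cases h1 : a < 16 ∧ n < 224
  · have h2 := List.all_eq_true.1 (List.all_eq_true.1 small_check a (List.mem_range.2 h1.1)) n
      (List.mem_range.2 h1.2)
    simp only [Bool.or_eq_true, decide_eq_true_eq] at h2
    exact ⟨_, ok_sound (h2.resolve_left (by
      rintro ((h3 | h3) | h3)
      · omega
      · omega
      · exact h h3))⟩
  obtain ⟨m, hm, h2⟩ := exists_prim ha hn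
  refine ⟨m, hm, Nat.le_of_mul_le_mul_left (le_trans ?_ h2) (show 0 < n by omega)⟩
  have h3 := (le_two_mul_totient_sq n).1
  have h4 : n * (3 * n + 1) ≤ 2 * n.totient ^ 2 * (6 * n.totient ^ 2 + 1) :=
    Nat.mul_le_mul h3 (by omega)
  refine h4.trans ?_
  by_cases h5 : n < 224
  · have h6 : 2 ≤ n.totient := by
      have := Nat.totient_pos.2 (show 0 < n by omega)
      obtain ⟨k, hk⟩ := Nat.totient_even hn
      omega
    exact (bound_base _ h6).trans ((Nat.pow_le_pow_left (by omega) _).trans (pow_le_cv ha n))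
  · exact Nat.le_of_mul_le_mul_left ((bound_big _ (le_totient (by omega))).trans
      (three_pow_le_cv ha hn)) (by positivity)

theorem Prim.le_of_dvd {a n m b : ℕ} (h : Prim a n m) (hb : 0 < b)
    (hd : a ^ n - 1 ∣ b * (((List.range (n - 1)).map fun i => a ^ (i + 1) - 1).prod) ^ 2) :
    m ≤ b := by
  refine Nat.le_of_dvd hb (Nat.Coprime.dvd_of_dvd_mul_right (Nat.Coprime.pow_right _ ?_)
    (h.1.trans hd))
  refine Nat.coprime_list_prod_right_iff.2 fun x hx => ?_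
  obtain ⟨i, hi, rfl⟩ := List.mem_map.1 hx
  rw [List.mem_range] at hi
  exact h.2 _ (by omega) (by omega)

end H76.Zs
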